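import Groth.Agent.Cyc8.Basic

set_option autoImplicit false
universe u v w

namespace Groth.Agent.Cyc8

variable {k : Type u} [Field k] {K : Type v} [Field K] [Algebra k K] [FiniteDimensional k K] [IsGalois k K]

/-- homomorphisms out of `K = k(α)` -/
theorem exists_hom_of_gen {α : K} (hgen : IntermediateField.adjoin k ({α} : Set K) = ⊤) {A : Type w} [Ring A]
    [Algebra k A] {x : A} {P : Polynomial k} (hP : P.Monic) (hPd : P.natDegree ≤ Module.finrank k K)
    (hPα : Polynomial.aeval α P = 0) (hPx : Polynomial.aeval x P = 0) :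
    ∃ ι : K →ₐ[k] A, ι α = x ∧ Set.range ι ⊆ Algebra.adjoin k ({x} : Set A) := by
  classical
  have hint : IsIntegral k α := Algebra.IsIntegral.isIntegral α
  let pb : PowerBasis k K :=
    (IntermediateField.adjoin.powerBasis hint).map ((IntermediateField.equivOfEq hgen).trans IntermediateField.topEquiv)
  have hg : pb.gen = α := by simp [pb]
  have hdeg : (minpoly k α).natDegree = Module.finrank k K := by
    have h1 := pb.finrank
    rw [h1]; simp [pb]
  have hmin : minpoly k α = P := by
    refine (Polynomial.eq_of_monic_of_dvd_of_natDegree_le (minpoly.monic hint) hP (minpoly.dvd k α hPα) ?_).symm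
    rw [hdeg]; exact hPd
  let ι := pb.lift x (by rw [hg, hmin]; exact hPx)
  refine ⟨ι, by rw [← hg]; exact pb.lift_gen _ _, ?_⟩
  rintro _ ⟨z, rfl⟩
  obtain ⟨f, -, rfl⟩ := pb.exists_eq_aeval z
  rw [← Polynomial.aeval_algHom_apply, pb.lift_gen]
  exact Polynomial.aeval_mem_adjoin_singleton k x

lemma comm_of_gen {α : K} (hgen : IntermediateField.adjoin k ({α} : Set K) = ⊤) {A : Type w} [Ring A] [Algebra k A]
    (σ : K ≃ₐ[k] K) (ι : K →ₐ[k] A) (y : A) (h : ι α * y = y * ι (σ α)) (z : K) : ι z * y = y * ι (σ z) := by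
  let S : Subalgebra k K :=
    { carrier := {z | ι z * y = y * ι (σ z)}
      mul_mem' := fun {p q} hp hq => by
        show ι (p * q) * y = y * ι (σ (p * q))
        rw [map_mul, map_mul, map_mul, mul_assoc, hq, ← mul_assoc, hp, mul_assoc]
      add_mem' := fun {p q} hp hq => by
        show ι (p + q) * y = y * ι (σ (p + q))
        rw [map_add, map_add, map_add, add_mul, mul_add, hp, hq]
      algebraMap_mem' := fun r => by
        show ι (algebraMap k K r) * y = y * ι (σ (algebraMap k K r))
        rw [AlgEquiv.commutes, AlgHom.commutes]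
        exact Algebra.commutes r y }
  have hle : Algebra.adjoin k ({α} : Set K) ≤ S := Algebra.adjoin_le (by simpa [S] using h)
  have htop : Algebra.adjoin k ({α} : Set K) = ⊤ := by
    rw [← IntermediateField.adjoin_simple_toSubalgebra_of_isAlgebraic (Algebra.IsAlgebraic.isAlgebraic α), hgen,
      IntermediateField.top_toSubalgebra]
  exact hle (htop ▸ Algebra.mem_top)

lemma range_le_of_gen {α : K} (hgen : IntermediateField.adjoin k ({α} : Set K) = ⊤) {A : Type w} [Ring A]
    [Algebra k A] (ι : K →ₐ[k] A) : Set.range ι ⊆ Algebra.adjoin k ({ι α} : Set A) := by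
  have htop : Algebra.adjoin k ({α} : Set K) = ⊤ := by
    rw [← IntermediateField.adjoin_simple_toSubalgebra_of_isAlgebraic (Algebra.IsAlgebraic.isAlgebraic α), hgen,
      IntermediateField.top_toSubalgebra]
  rintro _ ⟨z, rfl⟩
  have hz : z ∈ Algebra.adjoin k ({α} : Set K) := htop ▸ Algebra.mem_top
  have := (Subalgebra.mem_map (f := ι)).mpr ⟨z, hz, rfl⟩
  rwa [AlgHom.map_adjoin_singleton] at this

lemma adjoin_pair {A : Type w} [Ring A] [Algebra k A] (ι : K →ₐ[k] A) (y : A) {α : K}
    (h : Set.range ι ⊆ Algebra.adjoin k ({ι α} : Set A)) :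
    Algebra.adjoin k (Set.range ι ∪ {y}) = Algebra.adjoin k ({ι α, y} : Set A) := by
  refine le_antisymm (Algebra.adjoin_le ?_) (Algebra.adjoin_mono ?_)
  · rintro z (hz | hz)
    · exact Algebra.adjoin_mono (by simp) (h hz)
    · exact Algebra.subset_adjoin (Or.inr hz)
  · rintro z (hz | hz)
    · exact Or.inl ⟨α, hz.symm⟩
    · exact Or.inr hz

theorem symbol_iff (m : ℕ) (hm : 0 < m) (ω : k) (hK : Module.finrank k K = m)
    (a : kˣ) (α : K) (hα : α ^ m = algebraMap k K (a : k)) (hgen : IntermediateField.adjoin k ({α} : Set K) = ⊤)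
    (σ : K ≃ₐ[k] K) (hσ : σ α = ω • α) (b : kˣ) (A : Type w) [Ring A] [Algebra k A] :
    CSAGal.IsSymbolAlg k m ω a b A ↔ CSAGal.IsCyclicAlg k K σ b A := by
  constructor
  · rintro ⟨x, y, hx, hy, hxy, hgenA, -, hdim⟩
    obtain ⟨ι, hι, hsub⟩ := exists_hom_of_gen hgen (x := x) (P := Polynomial.X ^ m - Polynomial.C (a : k))
      (Polynomial.monic_X_pow_sub_C _ hm.ne') (by rw [Polynomial.natDegree_X_pow_sub_C, hK])
      (by simp [hα]) (by simp [hx])
    refine ⟨ι, y, by rw [hK]; exact hy, comm_of_gen hgen σ ι y ?_, ?_, Module.finrank_pos, by rw [hdim, hK]⟩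
    · rw [hσ, map_smul, hι, hxy, mul_smul_comm]
    · rw [adjoin_pair ι y (hι ▸ hsub), hι, hgenA]
  · rintro ⟨ι, y, hy, hcomm, hgenA, -, hdim⟩
    refine ⟨ι α, y, by rw [← map_pow, hα, AlgHom.commutes], by rwa [← hK], ?_, ?_, hm, by rw [hdim, hK]⟩
    · rw [hcomm, hσ, map_smul, mul_smul_comm]
    · rw [← adjoin_pair ι y (range_le_of_gen hgen ι), hgenA]

theorem artinSchreier_iff (p : ℕ) [Fact p.Prime] (hK : Module.finrank k K = p)
    (a : k) (α : K) (hα : α ^ p - α = algebraMap k K a) (hgen : IntermediateField.adjoin k ({α} : Set K) = ⊤)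
    (σ : K ≃ₐ[k] K) (hσ : σ α = α + 1) (b : kˣ) (A : Type w) [Ring A] [Algebra k A] :
    (∃ x y : A, x ^ p - x = algebraMap k A a ∧ y ^ p = algebraMap k A (b : k) ∧ x * y = y * (x + 1) ∧
        Algebra.adjoin k ({x, y} : Set A) = ⊤ ∧ Module.finrank k A = p ^ 2) ↔
      CSAGal.IsCyclicAlg k K σ b A := by
  have hp := (Fact.out : p.Prime).one_lt
  constructor
  · rintro ⟨x, y, hx, hy, hxy, hgenA, hdim⟩
    have hmon : (Polynomial.X ^ p - Polynomial.X - Polynomial.C a : Polynomial k).Monic := by
      rw [sub_sub]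
      refine (Polynomial.monic_X_pow p).sub_of_left ?_
      rw [Polynomial.degree_X_pow, Polynomial.degree_X_add_C]
      exact_mod_cast hp
    obtain ⟨ι, hι, hsub⟩ := exists_hom_of_gen hgen (x := x) (P := Polynomial.X ^ p - Polynomial.X - Polynomial.C a)
      hmon (by rw [hK]; compute_degree!; omega) (by simp [hα]) (by simp [hx])
    refine ⟨ι, y, by rw [hK]; exact hy, comm_of_gen hgen σ ι y ?_, ?_, Module.finrank_pos, by rw [hdim, hK]⟩
    · rw [hσ, map_add, map_one, hι, hxy]
    · rw [adjoin_pair ι y (hι ▸ hsub), hι, hgenA]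
  · rintro ⟨ι, y, hy, hcomm, hgenA, -, hdim⟩
    refine ⟨ι α, y, by rw [← map_pow, ← map_sub, hα, AlgHom.commutes], by rwa [← hK], ?_, ?_, by rw [hdim, hK]⟩
    · rw [hcomm, hσ, map_add, map_one]
    · rw [← adjoin_pair ι y (range_le_of_gen hgen ι), hgenA]

open Matrix in
theorem fixed_matrix_subalgebra {σ : K ≃ₐ[k] K} (hσ : Gen σ) (b : kˣ) :
    ∃ B : Subalgebra k (Matrix (Fin (Module.finrank k K)) (Fin (Module.finrank k K)) K),
      (∀ M : Matrix (Fin (Module.finrank k K)) (Fin (Module.finrank k K)) K,
        M ∈ B ↔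
          Matrix.of (fun i j : Fin (Module.finrank k K) =>
              if j.val + 1 = i.val then (1 : K)
              else if i.val = 0 ∧ j.val + 1 = Module.finrank k K then algebraMap k K (b : k) else 0) * M.map (fun x => σ x) =
            M * Matrix.of (fun i j : Fin (Module.finrank k K) =>
              if j.val + 1 = i.val then (1 : K)
              else if i.val = 0 ∧ j.val + 1 = Module.finrank k K then algebraMap k K (b : k) else 0)) ∧
      CSAGal.IsCyclicAlg k K σ b B := by
  classical
  set n := Module.finrank k K with hn_def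
  have hn : 0 < n := Module.finrank_pos
  let bK : K := algebraMap k K (b : k)
  set Z : Matrix (Fin n) (Fin n) K := Matrix.of (fun i j : Fin n =>
      if j.val + 1 = i.val then (1 : K) else if i.val = 0 ∧ j.val + 1 = n then algebraMap k K (b : k) else 0) with hZ
  let B : Subalgebra k (Matrix (Fin n) (Fin n) K) :=
    { carrier := {M | Z * M.map (fun x => σ x) = M * Z}
      mul_mem' := fun {p q} (hp : Z * p.map (fun x => σ x) = p * Z) (hq : Z * q.map (fun x => σ x) = q * Z) => by
        show Z * (p * q).map (fun x => σ x) = p * q * Z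
        have : (p * q).map (fun x => σ x) = p.map (fun x => σ x) * q.map (fun x => σ x) :=
          Matrix.map_mul (f := (σ : K →+* K))
        rw [this, ← mul_assoc, hp, mul_assoc, hq, mul_assoc]
      add_mem' := fun {p q} (hp : Z * p.map (fun x => σ x) = p * Z) (hq : Z * q.map (fun x => σ x) = q * Z) => by
        show Z * (p + q).map (fun x => σ x) = (p + q) * Z
        rw [Matrix.map_add _ (map_add σ), mul_add, add_mul, hp, hq]
      algebraMap_mem' := fun r => by
        show Z * (algebraMap k (Matrix (Fin n) (Fin n) K) r).map (fun x => σ x) = algebraMap k _ r * Z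
        have : (algebraMap k (Matrix (Fin n) (Fin n) K) r).map (fun x => σ x) = algebraMap k _ r := by
          ext i j
          by_cases h : i = j <;> simp [Matrix.algebraMap_matrix_apply, h]
        rw [this, Algebra.commutes] }
  refine ⟨B, fun M => Iff.rfl, ?_⟩
  have hmem : ∀ M, M ∈ B ↔ Z * M.map (fun x => σ x) = M * Z := fun M => Iff.rfl
  -- columns of `Z`
  have hZcol : ∀ (j i : Fin n), Z i j = if j.val + 1 = i.val then (1 : K) else
      if i.val = 0 ∧ j.val + 1 = n then bK else 0 := fun j i => rfl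
  have hZv : ∀ (M : Matrix (Fin n) (Fin n) K) (i j : Fin n), (M * Z) i j =
      if h : j.val + 1 < n then M i ⟨j.val + 1, h⟩ else M i ⟨0, hn⟩ * bK := by
    intro M i j
    rw [Matrix.mul_apply]
    split_ifs with h
    · rw [Finset.sum_eq_single (⟨j.val + 1, h⟩ : Fin n)]
      · simp [hZcol]
      · intro l _ hl
        rw [hZcol, if_neg (fun he => hl (Fin.ext he.symm)), if_neg (by omega), mul_zero]
      · simp
    · have := j.isLt
      rw [Finset.sum_eq_single (⟨0, hn⟩ : Fin n)]
      · rw [hZcol, if_neg (by simp), if_pos ⟨rfl, by omega⟩]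
      · intro l _ hl
        have hl0 : l.val ≠ 0 := fun he => hl (Fin.ext he)
        rw [hZcol, if_neg (by have := l.isLt; omega), if_neg (by omega), mul_zero]
      · simp
  have hσn : σ ^ n = 1 := by rw [hn_def, ← order_eq hσ, pow_orderOf_eq_one]
  let dg : K → Matrix (Fin n) (Fin n) K := fun x => Matrix.diagonal fun j => (σ ^ (j : ℕ)) x
  have hZd : ∀ (x : K) (d : Fin n → K), (∀ j : Fin n, d j = (σ ^ ((j : ℕ) + 1)) x) →
      Z * Matrix.diagonal d = dg x * Z := by
    intro x d hd
    ext i j
    rw [Matrix.mul_diagonal, Matrix.diagonal_mul, hZcol, hd j]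
    by_cases h1 : j.val + 1 = i.val
    · simp [h1]
    · by_cases h2 : i.val = 0 ∧ j.val + 1 = n
      · rw [if_neg h1, if_pos h2, h2.1, h2.2, hσn, pow_zero, mul_comm]
      · simp [h1, h2]
  have hdg : ∀ x, dg x ∈ B := fun x => by
    rw [hmem, show (dg x).map (fun z => σ z) = Matrix.diagonal fun j : Fin n => (σ ^ ((j : ℕ) + 1)) x by
      simp [dg, Matrix.diagonal_map, pow_succ', AlgEquiv.mul_apply]]
    exact hZd x _ fun j => rfl
  have hZB : Z ∈ B := by
    rw [hmem]
    congr 1
    ext i j
    simp only [Matrix.map_apply, hZ, Matrix.of_apply]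
    split_ifs <;> simp
  let ι : K →ₐ[k] B :=
    { toFun := fun x => ⟨dg x, hdg x⟩
      map_one' := Subtype.ext (by simp [dg])
      map_mul' := fun p q => Subtype.ext (by simp [dg, Matrix.diagonal_mul_diagonal])
      map_zero' := Subtype.ext (by simp [dg])
      map_add' := fun p q => Subtype.ext (by simp [dg, Matrix.diagonal_add])
      commutes' := fun r => Subtype.ext (by
        show dg (algebraMap k K r) = algebraMap k (Matrix (Fin n) (Fin n) K) r
        rw [Matrix.algebraMap_eq_diagonal]
        refine congrArg Matrix.diagonal (funext fun i => ?_)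
        simp [Function.comp, AlgEquiv.commutes]) }
  let y : B := ⟨Z, hZB⟩
  haveI : Nonempty (Fin n) := ⟨⟨0, hn⟩⟩
  -- a matrix in `B` is determined by its first column
  have hdet : ∀ M ∈ B, ∀ (j : ℕ) (hj : j < n), (∀ i, M i ⟨0, hn⟩ = 0) → ∀ i, M i ⟨j, hj⟩ = 0 := by
    intro M hM j hj h0
    induction j with
    | zero => exact h0
    | succ j ih =>
      intro i
      have h1 := congrFun (congrFun ((hmem M).mp hM) i) ⟨j, by omega⟩
      rw [hZv, dif_pos hj, Matrix.mul_apply] at h1
      rw [← h1]
      exact Finset.sum_eq_zero fun l _ => by rw [Matrix.map_apply, ih (by omega) l, map_zero, mul_zero]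
  have hdimB : Module.finrank k B ≤ n ^ 2 := by
    let col : B →ₗ[k] (Fin n → K) :=
      { toFun := fun M i => (M : Matrix (Fin n) (Fin n) K) i ⟨0, hn⟩
        map_add' := fun p q => rfl
        map_smul' := fun r p => rfl }
    have hinj : Function.Injective col := by
      rw [injective_iff_map_eq_zero]
      intro M hM
      apply Subtype.ext
      ext i j
      exact hdet M M.2 j.val j.isLt (fun i => congrFun hM i) i
    have := LinearMap.finrank_le_finrank_of_injective hinj
    rwa [Module.finrank_pi_fintype, Finset.sum_const, Finset.card_univ, Fintype.card_fin, smul_eq_mul, ← pow_two] at this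
  have hcomm : ∀ x : K, ι x * y = y * ι (σ x) := fun x => Subtype.ext (by
    show dg x * Z = Z * dg (σ x)
    refine (hZd x _ fun j => ?_).symm
    rw [pow_succ, AlgEquiv.mul_apply])
  have hpow : y ^ n = algebraMap k B (b : k) := by
    apply Subtype.ext
    show Z ^ n = algebraMap k (Matrix (Fin n) (Fin n) K) (b : k)
    have key : ∀ (i : ℕ) (hi : i < n), ∀ r, (Z ^ i) r ⟨0, hn⟩ = if r.val = i then 1 else 0 := by
      intro i
      induction i with
      | zero => intro hi r; rw [pow_zero, Matrix.one_apply]; simp [Fin.ext_iff]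
      | succ i ih =>
        intro hi r
        rw [pow_succ', Matrix.mul_apply, Finset.sum_eq_single (⟨i, by omega⟩ : Fin n)]
        · rw [ih (by omega), if_pos rfl, mul_one, hZcol]
          by_cases h : r.val = i + 1
          · rw [if_pos h.symm, if_pos h]
          · rw [if_neg (fun he => h he.symm), if_neg (by omega : ¬ (r.val = 0 ∧ i + 1 = n)), if_neg h]
        · intro l _ hl
          rw [ih (by omega), if_neg (fun he => hl (Fin.ext he)), mul_zero]
        · simp
    have hcol : ∀ r, (Z ^ n) r ⟨0, hn⟩ = (algebraMap k (Matrix (Fin n) (Fin n) K) (b : k)) r ⟨0, hn⟩ := by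
      intro r
      obtain ⟨n', hn'⟩ : ∃ n', n = n' + 1 := ⟨n - 1, by omega⟩
      rw [show Z ^ n = Z * Z ^ n' by rw [← pow_succ', ← hn'], Matrix.mul_apply, Finset.sum_eq_single (⟨n', by omega⟩ : Fin n)]
      · rw [key n' (by omega), if_pos rfl, mul_one, hZcol, Matrix.algebraMap_matrix_apply]
        simp only [bK]
        by_cases h : r.val = 0
        · rw [if_neg (by omega), if_pos ⟨h, by omega⟩, if_pos (Fin.ext h)]
        · rw [if_neg (by have := r.isLt; omega), if_neg (fun he => h he.1), if_neg (fun he => h (congrArg Fin.val he))]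
      · intro l _ hl
        rw [key n' (by omega), if_neg (fun he => hl (Fin.ext he)), mul_zero]
      · simp
    have hsub : Z ^ n - algebraMap k (Matrix (Fin n) (Fin n) K) (b : k) ∈ B :=
      sub_mem (pow_mem hZB n) (B.algebraMap_mem _)
    ext i j
    have := hdet _ hsub j.val j.isLt (fun r => by rw [Matrix.sub_apply, hcol, sub_self]) i
    rwa [Matrix.sub_apply, sub_eq_zero] at this
  exact isCyclicAlg_of_rel hσ b ⟨hpow, hcomm⟩ hdimB

end Groth.Agent.Cyc8
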