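import Groth.Agent.Cyc8.Basic

set_option autoImplicit false
universe u v w x y₀

open scoped TensorProduct

namespace Groth.Agent.Cyc8

variable {k : Type u} [Field k] {K : Type v} [Field K] [Algebra k K] [FiniteDimensional k K] [IsGalois k K]

section Dedekind

variable (k K) in
/-- `x ⊗ z ↦ (τ ↦ x · τ z)` -/
noncomputable def phi : K ⊗[k] K →ₐ[K] ((K ≃ₐ[k] K) → K) :=
  Algebra.TensorProduct.lift (Algebra.ofId K _) (Pi.algHom k _ fun τ : K ≃ₐ[k] K => τ.toAlgHom)
    (fun _ _ => Commute.all _ _)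

lemma phi_tmul (x z : K) (τ : K ≃ₐ[k] K) : phi k K (x ⊗ₜ z) τ = x * τ z := by
  simp [phi, Algebra.ofId_apply]

lemma phi_bijective : Function.Bijective (phi k K) := by
  classical
  have hs : Function.Surjective (phi k K).toLinearMap := by
    rw [← LinearMap.range_eq_top]
    by_contra hne
    obtain ⟨φ, hφ, hle⟩ := Submodule.exists_le_ker_of_lt_top _ (lt_top_iff_ne_top.mpr hne)
    refine hφ ?_
    let c : (K ≃ₐ[k] K) → K := fun τ => φ (Pi.single τ 1)
    have hexp : ∀ f, φ f = ∑ τ, f τ * c τ := fun f => by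
      conv_lhs => rw [← Finset.univ_sum_single f]
      rw [map_sum]
      refine Finset.sum_congr rfl fun τ _ => ?_
      have : Pi.single τ (f τ) = f τ • (Pi.single τ (1 : K) : (K ≃ₐ[k] K) → K) := by
        rw [← Pi.single_smul, smul_eq_mul, mul_one]
      rw [this, map_smul, smul_eq_mul]
    have hli : LinearIndependent K (fun τ : K ≃ₐ[k] K => ((τ : K →* K) : K → K)) :=
      (linearIndependent_monoidHom K K).comp (fun τ : K ≃ₐ[k] K => (τ : K →* K))
        (fun a b h => AlgEquiv.ext fun z => DFunLike.congr_fun h z)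
    have hc : ∀ τ, c τ = 0 := by
      refine Fintype.linearIndependent_iff.mp hli c (funext fun z => ?_)
      have h0 : φ (phi k K (1 ⊗ₜ z)) = 0 := hle (LinearMap.mem_range_self (phi k K).toLinearMap (1 ⊗ₜ[k] z))
      rw [hexp] at h0
      simp only [phi_tmul, one_mul] at h0
      simp only [Finset.sum_apply, Pi.smul_apply, smul_eq_mul, Pi.zero_apply]
      rw [← h0]
      exact Finset.sum_congr rfl fun τ _ => mul_comm _ _
    refine LinearMap.ext fun f => ?_
    rw [hexp]
    simp [hc]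
  refine ⟨(LinearMap.injective_iff_surjective_of_finrank_eq_finrank ?_).mpr hs, hs⟩
  rw [Module.finrank_baseChange, Module.finrank_pi, ← Nat.card_eq_fintype_card, IsGalois.card_aut_eq_finrank]

end Dedekind

variable {σ : K ≃ₐ[k] K}

lemma gen_comm (hσ : Gen σ) (τ : K ≃ₐ[k] K) : τ * σ = σ * τ := by
  obtain ⟨m, rfl⟩ := hσ τ
  exact (Commute.zpow_self σ m).eq

lemma negpow_bijective (hσ : Gen σ) :
    Function.Bijective (fun i : Fin (Module.finrank k K) => (σ ^ (i : ℕ))⁻¹) := by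
  classical
  refine (Fintype.bijective_iff_injective_and_card _).mpr ⟨fun a b h => pow_inj hσ (inv_injective h), ?_⟩
  rw [Fintype.card_fin, ← Nat.card_eq_fintype_card, IsGalois.card_aut_eq_finrank]

theorem tensor_cyclic (hσ : Gen σ) {b b' : kˣ} {A : Type w} {A' : Type x} {A'' : Type y₀} [Ring A] [Algebra k A] [Ring A'] [Algebra k A']
    [Ring A''] [Algebra k A''] (hA : CSAGal.IsCyclicAlg k K σ b A) (hA' : CSAGal.IsCyclicAlg k K σ b' A')
    (hA'' : CSAGal.IsCyclicAlg k K σ (b * b') A'') :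
    Nonempty ((A ⊗[k] A') ≃ₐ[k] Matrix (Fin (Module.finrank k K)) (Fin (Module.finrank k K)) A'') := by
  classical
  obtain ⟨hc, hs, hfd⟩ := central_simple hσ hA''
  obtain ⟨ι, y, h, -, hnt, hfdA, hdim⟩ := unpack hσ hA
  obtain ⟨ι', y', h', -, hnt', hfdA', hdim'⟩ := unpack hσ hA'
  obtain ⟨-, -, -, -, hnt'', -, hdim''⟩ := unpack hσ hA''
  set n := Module.finrank k K
  let W : K ⊗[k] K →ₐ[k] A ⊗[k] A' := Algebra.TensorProduct.map ι ι'
  let Φ := AlgEquiv.ofBijective (phi k K) phi_bijective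
  let ι₁ : K →ₐ[k] A ⊗[k] A' := Algebra.TensorProduct.includeLeft.comp ι
  let Y : A ⊗[k] A' := y ⊗ₜ y'
  have hrel : Rel σ ((b * b' : kˣ) : k) ι₁ Y := ⟨by
      show (y ⊗ₜ y') ^ n = _
      rw [Algebra.TensorProduct.tmul_pow, h.pow, h'.pow, Units.val_mul]
      simp only [Algebra.algebraMap_eq_smul_one, Algebra.TensorProduct.one_def]
      rw [← TensorProduct.smul_tmul', TensorProduct.tmul_smul, ← mul_smul], fun z => by
      show (ι z ⊗ₜ (1 : A')) * (y ⊗ₜ y') = (y ⊗ₜ y') * (ι (σ z) ⊗ₜ (1 : A'))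
      rw [Algebra.TensorProduct.tmul_mul_tmul, Algebra.TensorProduct.tmul_mul_tmul, h.comm, one_mul, mul_one]⟩
  obtain ⟨ι'', y'', f, -, hfι, hfy, hgen⟩ := lift hσ hA'' hrel
  have hyu : IsUnit ((1 : A) ⊗ₜ[k] y') := by
    obtain ⟨w, hw⟩ := h'.isUnit b'.ne_zero
    rw [← hw]
    exact (Units.isUnit w).map (Algebra.TensorProduct.includeRight : A' →ₐ[k] A ⊗[k] A')
  obtain ⟨u, hu⟩ := hyu
  let S1 : K ⊗[k] K →ₐ[k] K ⊗[k] K := Algebra.TensorProduct.map (AlgHom.id k K) σ.toAlgHom
  let S2 : K ⊗[k] K →ₐ[k] K ⊗[k] K := Algebra.TensorProduct.map σ.toAlgHom σ.toAlgHom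
  have hWu : ∀ t, W t * (u : A ⊗[k] A') = u * W (S1 t) := by
    intro t
    induction t using TensorProduct.induction_on with
    | zero => simp
    | tmul p q => simp [W, S1, hu, h'.comm]
    | add p q hp hq => simp only [map_add, add_mul, mul_add, hp, hq]
  have hWY : ∀ t, W t * Y = Y * W (S2 t) := by
    intro t
    induction t using TensorProduct.induction_on with
    | zero => simp
    | tmul p q => simp [W, S2, Y, h.comm, h'.comm]
    | add p q hp hq => simp only [map_add, add_mul, mul_add, hp, hq]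
  have hS1 : ∀ t τ, phi k K (S1 t) τ = phi k K t (τ * σ) := by
    intro t τ
    induction t using TensorProduct.induction_on with
    | zero => simp
    | tmul p q => simp [S1, phi_tmul]
    | add p q hp hq => simp only [map_add, Pi.add_apply, hp, hq]
  have hS2 : ∀ t τ, phi k K (S2 t) τ = σ (phi k K t τ) := by
    intro t τ
    induction t using TensorProduct.induction_on with
    | zero => simp
    | tmul p q =>
      simp only [S2, Algebra.TensorProduct.map_tmul, phi_tmul, map_mul]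
      exact congrArg (σ p * ·) (DFunLike.congr_fun (gen_comm hσ τ) q)
    | add p q hp hq => simp only [map_add, Pi.add_apply, hp, hq]
  let d : (K ≃ₐ[k] K) → K ⊗[k] K := fun τ => Φ.symm (Pi.single τ 1)
  have hd : ∀ τ, phi k K (d τ) = Pi.single τ 1 := fun τ => Φ.apply_symm_apply _
  have hdS1 : ∀ τ, S1 (d τ) = d (τ * σ⁻¹) := fun τ => phi_bijective.1 <| funext fun ρ => by
    rw [hS1, hd, hd]
    by_cases hρ : ρ = τ * σ⁻¹
    · subst hρ; simp
    · rw [Pi.single_eq_of_ne hρ, Pi.single_eq_of_ne (fun he => hρ (by rw [← he, mul_inv_cancel_right]))]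
  have hdS2 : ∀ τ, S2 (d τ) = d τ := fun τ => phi_bijective.1 <| funext fun ρ => by
    rw [hS2, hd]
    by_cases hρ : ρ = τ
    · subst hρ; simp
    · rw [Pi.single_eq_of_ne hρ, map_zero]
  have hdmul : ∀ τ ρ, W (d τ) * W (d ρ) = if τ = ρ then W (d τ) else 0 := fun τ ρ => by
    rw [← map_mul]
    split_ifs with he
    · subst he
      congr 1
      apply phi_bijective.1
      rw [map_mul, hd, ← Pi.single_mul, mul_one]
    · rw [show d τ * d ρ = 0 from phi_bijective.1 (by
        rw [map_mul, map_zero, hd, hd]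
        funext z
        by_cases hz : z = τ
        · subst hz; simp [Pi.single_eq_of_ne he]
        · simp [Pi.single_eq_of_ne hz]), map_zero]
  have hdsum : ∑ τ, W (d τ) = 1 := by
    rw [← map_sum, show ∑ τ, d τ = 1 from phi_bijective.1 (by
      rw [map_sum, map_one]
      simp only [hd]
      exact Finset.univ_sum_single (fun _ => (1 : K))), map_one]
  set e : A ⊗[k] A' := W (d 1) with he_def
  -- conjugates of `e`
  have hconj : ∀ i : ℕ, e * (u : A ⊗[k] A') ^ i = (u : A ⊗[k] A') ^ i * W (d (σ ^ i)⁻¹) := by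
    intro i
    induction i with
    | zero => simp [he_def]
    | succ i ih =>
      rw [pow_succ, ← mul_assoc, ih, mul_assoc, hWu, ← mul_assoc, hdS1]
      congr 3
      rw [pow_succ', mul_inv_rev]
  have hei : ∀ i : ℕ, ((u⁻¹ : (A ⊗[k] A')ˣ) : A ⊗[k] A') ^ i * (e * (u : A ⊗[k] A') ^ i) = W (d (σ ^ i)⁻¹) := by
    intro i
    rw [hconj, ← mul_assoc, ← Units.val_pow_eq_pow_val, ← Units.val_pow_eq_pow_val, inv_pow, Units.inv_mul, one_mul]
  set v : A ⊗[k] A' := ((u⁻¹ : (A ⊗[k] A')ˣ) : A ⊗[k] A') with hv_def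
  have huv : ∀ i : ℕ, (u : A ⊗[k] A') ^ i * v ^ i = 1 := fun i => by
    rw [hv_def, ← Units.val_pow_eq_pow_val, ← Units.val_pow_eq_pow_val, inv_pow, Units.mul_inv]
  let E : Fin n → Fin n → A ⊗[k] A' := fun i j => v ^ (i : ℕ) * e * (u : A ⊗[k] A') ^ (j : ℕ)
  have hmid : ∀ j l : Fin n, e * ((u : A ⊗[k] A') ^ (j : ℕ) * v ^ (l : ℕ)) * e = if j = l then e else 0 := by
    intro j l
    have h0 : ∀ i : Fin n, e = (u : A ⊗[k] A') ^ (i : ℕ) * W (d (σ ^ (i : ℕ))⁻¹) * v ^ (i : ℕ) := fun i => by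
      rw [← hconj, mul_assoc, huv, mul_one]
    split_ifs with hjl
    · subst hjl
      rw [huv, mul_one, hdmul, if_pos rfl]
    · calc e * ((u : A ⊗[k] A') ^ (j : ℕ) * v ^ (l : ℕ)) * e
          = ((u : A ⊗[k] A') ^ (j : ℕ) * W (d (σ ^ (j : ℕ))⁻¹)) * (v ^ (l : ℕ) * (e * ((u : A ⊗[k] A') ^ (l : ℕ) * v ^ (l : ℕ)))) := by
            rw [huv, mul_one, ← hconj]; simp only [mul_assoc]
        _ = (u : A ⊗[k] A') ^ (j : ℕ) * (W (d (σ ^ (j : ℕ))⁻¹) * W (d (σ ^ (l : ℕ))⁻¹)) * v ^ (l : ℕ) := by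
            rw [← hei l]; simp only [mul_assoc]
        _ = 0 := by
            rw [hdmul, if_neg (fun he => hjl ((negpow_bijective hσ).1 he)), mul_zero, zero_mul]
  have hEE : ∀ i j l m, E i j * E l m = if j = l then E i m else 0 := by
    intro i j l m
    have : E i j * E l m = v ^ (i : ℕ) * (e * ((u : A ⊗[k] A') ^ (j : ℕ) * v ^ (l : ℕ)) * e) * (u : A ⊗[k] A') ^ (m : ℕ) := by
      simp only [E, mul_assoc]
    rw [this, hmid]
    split_ifs <;> simp [E]
  have hEsum : ∑ i, E i i = 1 := by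
    rw [← hdsum, ← (Equiv.ofBijective _ (negpow_bijective hσ)).sum_comp]
    refine Finset.sum_congr rfl fun i _ => ?_
    show v ^ (i : ℕ) * e * (u : A ⊗[k] A') ^ (i : ℕ) = _
    rw [mul_assoc, hei]; rfl
  let gl : Matrix (Fin n) (Fin n) k →ₗ[k] A ⊗[k] A' :=
    { toFun := fun M => ∑ i, ∑ j, M i j • E i j
      map_add' := fun p q => by simp [add_smul, Finset.sum_add_distrib]
      map_smul' := fun r p => by simp [smul_smul, Finset.smul_sum] }
  let g : Matrix (Fin n) (Fin n) k →ₐ[k] A ⊗[k] A' := AlgHom.ofLinearMap gl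
    (by
      show ∑ i, ∑ j, (1 : Matrix (Fin n) (Fin n) k) i j • E i j = 1
      rw [← hEsum]
      refine Finset.sum_congr rfl fun i _ => ?_
      rw [Finset.sum_eq_single i] <;> simp +contextual [Matrix.one_apply, eq_comm])
    (fun M N => by
      show ∑ i, ∑ j, (M * N) i j • E i j = (∑ i, ∑ j, M i j • E i j) * ∑ i, ∑ j, N i j • E i j
      rw [Finset.sum_mul]
      refine Finset.sum_congr rfl fun i _ => ?_
      rw [Finset.sum_mul]
      simp only [Finset.mul_sum, smul_mul_smul_comm, hEE, smul_ite, smul_zero,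
        Finset.sum_ite_irrel, Finset.sum_const_zero, Finset.sum_ite_eq, Finset.mem_univ, if_true,
        Matrix.mul_apply, Finset.sum_smul]
      exact Finset.sum_comm)
  -- everything in `f` commutes with the matrix units
  have hfc : ∀ a, Commute (f a) e ∧ Commute (f a) (u : A ⊗[k] A') := by
    intro a
    have ha : a ∈ Algebra.adjoin k (Set.range ι'' ∪ {y''}) := hgen ▸ Algebra.mem_top
    induction ha using Algebra.adjoin_induction with
    | mem z hz =>
      rcases hz with ⟨t, rfl⟩ | hz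
      · have hW : ι₁ t = W (t ⊗ₜ 1) := by simp [ι₁, W]
        rw [hfι]
        refine ⟨?_, ?_⟩
        · rw [hW, he_def, Commute, SemiconjBy, ← map_mul, ← map_mul, mul_comm]
        · show (ι t ⊗ₜ (1 : A')) * (u : A ⊗[k] A') = (u : A ⊗[k] A') * (ι t ⊗ₜ (1 : A'))
          simp [hu]
      · rw [Set.mem_singleton_iff.mp hz, hfy]
        refine ⟨?_, ?_⟩
        · rw [Commute, SemiconjBy, he_def, hWY, hdS2]
        · show (y ⊗ₜ y') * (u : A ⊗[k] A') = (u : A ⊗[k] A') * (y ⊗ₜ y')
          simp [hu]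
    | algebraMap r => rw [AlgHom.commutes]; exact ⟨Algebra.commutes r e, Algebra.commutes r _⟩
    | add p q _ _ hp hq => rw [map_add]; exact ⟨hp.1.add_left hq.1, hp.2.add_left hq.2⟩
    | mul p q _ _ hp hq => rw [map_mul]; exact ⟨hp.1.mul_left hq.1, hp.2.mul_left hq.2⟩
  have hfE : ∀ a i j, Commute (f a) (E i j) := fun a i j =>
    (((hfc a).2.units_inv_right.pow_right _).mul_right (hfc a).1).mul_right ((hfc a).2.pow_right _)
  have hfg : ∀ a M, Commute (f a) (g M) := fun a M =>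
    show Commute (f a) (∑ i, ∑ j, M i j • E i j) from Commute.sum_right _ _ _ fun i _ => Commute.sum_right _ _ _ fun j _ => (hfE a i j).smul_right _
  let eM := matrixEquivTensor (Fin n) k A''
  let F : Matrix (Fin n) (Fin n) A'' →ₐ[k] A ⊗[k] A' :=
    (Algebra.TensorProduct.lift f g hfg).comp eM.toAlgHom
  haveI : Nonempty (Fin n) := ⟨⟨0, Module.finrank_pos⟩⟩
  have hpos : 0 < Module.finrank k (A ⊗[k] A') := by
    rw [Module.finrank_tensorProduct, hdim, hdim']; exact Nat.mul_pos (pow_pos Module.finrank_pos 2) (pow_pos Module.finrank_pos 2)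
  haveI : Nontrivial (A ⊗[k] A') := Module.nontrivial_of_finrank_pos hpos
  have hinj : Function.Injective F := RingHom.injective F.toRingHom
  have hsurj : Function.Surjective F.toLinearMap :=
    (LinearMap.injective_iff_surjective_of_finrank_eq_finrank (by
      rw [Module.finrank_matrix, Module.finrank_tensorProduct, Fintype.card_fin, hdim, hdim', hdim'']; ring)).mp hinj
  exact ⟨(AlgEquiv.ofBijective F ⟨hinj, hsurj⟩).symm⟩

theorem similar_tensor (hσ : Gen σ) {b b' : kˣ} {A A' A'' : Type w} [Ring A] [Algebra k A] [Ring A'] [Algebra k A']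
    [Ring A''] [Algebra k A''] (hA : CSAGal.IsCyclicAlg k K σ b A) (hA' : CSAGal.IsCyclicAlg k K σ b' A')
    (hA'' : CSAGal.IsCyclicAlg k K σ (b * b') A'') :
    ∃ n m : ℕ, n ≠ 0 ∧ m ≠ 0 ∧
      Nonempty (Matrix (Fin n) (Fin n) (A ⊗[k] A') ≃ₐ[k] Matrix (Fin m) (Fin m) A'') := by
  obtain ⟨e⟩ := tensor_cyclic hσ hA hA' hA''
  exact ⟨1, 1 * Module.finrank k K, one_ne_zero, (Nat.mul_pos Nat.one_pos Module.finrank_pos).ne', ⟨e.mapMatrix.trans
    ((Matrix.compAlgEquiv (Fin 1) (Fin (Module.finrank k K)) A'' k).trans (Matrix.reindexAlgEquiv k A'' finProdFinEquiv))⟩⟩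

end Groth.Agent.Cyc8
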