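import Groth.Agent.Cyc8.Split
import Groth.Agent.Cyc8.Tensor
import Groth.Agent.Cyc8.Examples
import Mathlib.RingTheory.Norm.Transitivity
import Mathlib.RingTheory.PiTensorProduct

set_option autoImplicit false
universe u v w x

open scoped TensorProduct

namespace Groth.Agent.Cyc8

variable {k : Type u} [Field k] {K : Type v} [Field K] [Algebra k K] [FiniteDimensional k K] [IsGalois k K]
variable {σ : K ≃ₐ[k] K}

lemma prod_powers (hσ : Gen σ) (c : K) :
    ∏ j ∈ Finset.range (Module.finrank k K), (σ⁻¹ ^ j) c = algebraMap k K (Algebra.norm k c) := by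
  rw [Algebra.norm_eq_prod_automorphisms, ← Fin.prod_univ_eq_prod_range (fun j => (σ⁻¹ ^ j) c),
    ← (Equiv.ofBijective _ (negpow_bijective hσ)).prod_comp]
  refine Finset.prod_congr rfl fun i _ => ?_
  rw [inv_pow]; rfl

omit [FiniteDimensional k K] [IsGalois k K] in
lemma end_pow {Y : Module.End k K} {c : K} (hY : ∀ v, Y v = σ⁻¹ v * c) (i : ℕ) (v : K) :
    (Y ^ i) v = (∏ j ∈ Finset.range i, (σ⁻¹ ^ j) c) * (σ⁻¹ ^ i) v := by
  induction i generalizing v with
  | zero => simp
  | succ i ih =>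
    rw [pow_succ, Module.End.mul_apply, ih, hY, map_mul, Finset.prod_range_succ, pow_succ, AlgEquiv.mul_apply]
    ring

/-- cyclic algebras with the same parameters are isomorphic -/
theorem cyclic_unique (hσ : Gen σ) {b : kˣ} {A : Type w} [Ring A] [Algebra k A] {B : Type x} [Ring B] [Algebra k B]
    (hA : CSAGal.IsCyclicAlg k K σ b A) (hB : CSAGal.IsCyclicAlg k K σ b B) : Nonempty (A ≃ₐ[k] B) := by
  obtain ⟨hc, hs, hfd⟩ := central_simple hσ hA
  obtain ⟨-, -, -, -, -, -, hdim⟩ := unpack hσ hA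
  obtain ⟨ι, y, h, -, hnt, hfd', hdim'⟩ := unpack hσ hB
  obtain ⟨-, -, f, -⟩ := lift hσ hA h
  have hinj : Function.Injective f := RingHom.injective f.toRingHom
  have hsurj : Function.Surjective f.toLinearMap :=
    (LinearMap.injective_iff_surjective_of_finrank_eq_finrank (hdim.trans hdim'.symm)).mp hinj
  exact ⟨AlgEquiv.ofBijective f ⟨hinj, hsurj⟩⟩

omit [FiniteDimensional k K] [IsGalois k K] in
lemma splits_self_iff (A : Type w) [Ring A] [Algebra k A] :
    Curves.Splits k A k ↔ ∃ d : ℕ, d ≠ 0 ∧ Nonempty (A ≃ₐ[k] Matrix (Fin d) (Fin d) k) := by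
  constructor
  · rintro ⟨d, hd, ⟨e⟩⟩; exact ⟨d, hd, ⟨(Algebra.TensorProduct.lid k A).symm.trans e⟩⟩
  · rintro ⟨d, hd, ⟨e⟩⟩; exact ⟨d, hd, ⟨(Algebra.TensorProduct.lid k A).trans e⟩⟩

theorem splits_iff_norm (hσ : Gen σ) {b : kˣ} {A : Type w} [Ring A] [Algebra k A]
    (hA : CSAGal.IsCyclicAlg k K σ b A) : Curves.Splits k A k ↔ ∃ x : K, Algebra.norm k x = (b : k) := by
  classical
  set n := Module.finrank k K with hn
  obtain ⟨hcen, hsim, hfd⟩ := central_simple hσ hA
  obtain ⟨ι, y, h, -, hnt, -, hdim⟩ := unpack hσ hA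
  let bK := Module.finBasis k K
  let T : Module.End k K ≃ₐ[k] Matrix (Fin n) (Fin n) k := algEquivMatrix bK
  have hσn : σ⁻¹ ^ n = 1 := by rw [inv_pow, hn, ← order_eq hσ, pow_orderOf_eq_one, inv_one]
  rw [splits_self_iff]
  constructor
  · rintro ⟨d, hd, ⟨e⟩⟩
    have hdn : d = n := by
      have := e.toLinearEquiv.finrank_eq
      rw [hdim, Module.finrank_matrix, Fintype.card_fin, Module.finrank_self, mul_one, ← pow_two] at this
      exact (Nat.pow_left_injective two_ne_zero this).symm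
    subst hdn
    haveI : Nonempty (Fin n) := ⟨⟨0, Module.finrank_pos⟩⟩
    let ι₀ : K →ₐ[k] Matrix (Fin n) (Fin n) k := T.toAlgHom.comp (Algebra.lmul k K)
    obtain ⟨u, hu⟩ := CSA8.skolem_noether (k := k) (e.toAlgHom.comp ι) ι₀
    let Y : Module.End k K := T.symm (((u⁻¹ : (Matrix (Fin n) (Fin n) k)ˣ) : Matrix (Fin n) (Fin n) k) * e y * u)
    have hI : ∀ z, Algebra.lmul k K z =
        T.symm (((u⁻¹ : (Matrix (Fin n) (Fin n) k)ˣ) : Matrix (Fin n) (Fin n) k) * e (ι z) * u) := fun z => by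
      rw [show e (ι z) = _ from hu z, ← mul_assoc, ← mul_assoc, Units.inv_mul, one_mul, mul_assoc, Units.inv_mul,
        mul_one]
      exact (T.symm_apply_apply _).symm
    have hcomm : ∀ z, Algebra.lmul k K z * Y = Y * Algebra.lmul k K (σ z) := fun z => by
      rw [hI, hI, ← map_mul, ← map_mul]
      congr 1
      have := congrArg e (h.comm z)
      rw [map_mul, map_mul] at this
      simp only [mul_assoc, Units.mul_inv_cancel_left]
      rw [← mul_assoc (e (ι z)), this, mul_assoc]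
    have hY : ∀ v, Y v = σ⁻¹ v * Y 1 := fun v => by
      have := LinearMap.congr_fun (hcomm (σ⁻¹ v)) 1
      change σ⁻¹ v * Y 1 = Y (σ (σ⁻¹ v) * 1) at this
      rw [show σ (σ⁻¹ v) = v from σ.apply_symm_apply v, mul_one] at this
      exact this.symm
    have hYn : Y ^ n = algebraMap k _ (b : k) := by
      have h1 : e y ^ n = algebraMap k _ (b : k) := by rw [← map_pow, h.pow, AlgEquiv.commutes]
      rw [← map_pow, Units.conj_pow' u (e y) n, h1, ← Algebra.commutes (b : k), mul_assoc, Units.inv_mul, mul_one,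
        AlgEquiv.commutes]
    refine ⟨Y 1, (algebraMap k K).injective ?_⟩
    have h2 := LinearMap.congr_fun hYn 1
    rw [end_pow hY, show (σ⁻¹ ^ n) (1 : K) = 1 from _root_.map_one _, mul_one, prod_powers hσ] at h2
    simpa [Module.algebraMap_end_apply, Algebra.smul_def] using h2
  · rintro ⟨c, hc⟩
    let Y : Module.End k K := (LinearMap.mulRight k c).comp (σ⁻¹ : K ≃ₐ[k] K).toLinearMap
    have hY : ∀ v, Y v = σ⁻¹ v * c := fun v => rfl
    have hrel : Rel σ (b : k) (Algebra.lmul k K) Y := ⟨LinearMap.ext fun v => by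
        rw [end_pow hY, ← hn, hσn, prod_powers hσ, hc]
        simp [Module.algebraMap_end_apply, Algebra.smul_def], fun z => LinearMap.ext fun v => by
        show z * (σ⁻¹ v * c) = σ⁻¹ (σ z * v) * c
        rw [map_mul, show σ⁻¹ (σ z) = z from σ.symm_apply_apply z, mul_assoc]⟩
    obtain ⟨-, -, f, -⟩ := lift hσ hA hrel
    haveI : Nontrivial (Module.End k K) := inferInstance
    have hinj : Function.Injective f := RingHom.injective f.toRingHom
    have hsurj : Function.Surjective f.toLinearMap :=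
      (LinearMap.injective_iff_surjective_of_finrank_eq_finrank (by
        rw [hdim, Module.finrank_linearMap, pow_two])).mp hinj
    exact ⟨n, Module.finrank_pos.ne', ⟨(AlgEquiv.ofBijective f ⟨hinj, hsurj⟩).trans T⟩⟩

section Tpow

variable (k) (A : Type w) [Ring A] [Algebra k A]

/-- linear splitting of the last factor -/
noncomputable def tpowSuccL (e : ℕ) : CSAGal.tpow k A (e + 1) ≃ₗ[k] CSAGal.tpow k A e ⊗[k] A :=
  (PiTensorProduct.reindex k (fun _ : Fin (e + 1) => A) (finSumFinEquiv (m := e) (n := 1)).symm).trans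
    ((PiTensorProduct.tmulEquiv k A).symm.trans
      (TensorProduct.congr (LinearEquiv.refl k _) (PiTensorProduct.subsingletonEquiv (0 : Fin 1))))

lemma tpowSuccL_tprod (e : ℕ) (a : Fin (e + 1) → A) :
    tpowSuccL k A e (PiTensorProduct.tprod k a) =
      PiTensorProduct.tprod k (fun i => a (Fin.castAdd 1 i)) ⊗ₜ a (Fin.natAdd e 0) := by
  simp [tpowSuccL]

noncomputable def tpowSucc (e : ℕ) : CSAGal.tpow k A (e + 1) ≃ₐ[k] CSAGal.tpow k A e ⊗[k] A :=
  AlgEquiv.ofLinearEquiv (tpowSuccL k A e)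
    (by rw [PiTensorProduct.one_def, tpowSuccL_tprod]; rfl)
    (LinearMap.map_mul_iff (tpowSuccL k A e).toLinearMap |>.mpr <| by
      ext a b
      simp only [LinearMap.compr₂_apply, LinearMap.compMultilinearMap_apply, LinearMap.compl₂_apply,
        LinearMap.comp_apply, LinearMap.mul_apply', LinearEquiv.coe_coe, PiTensorProduct.tprod_mul_tprod,
        tpowSuccL_tprod, Algebra.TensorProduct.tmul_mul_tmul]
      rfl)

noncomputable def tpowOne : CSAGal.tpow k A 1 ≃ₐ[k] A :=
  AlgEquiv.ofLinearEquiv (PiTensorProduct.subsingletonEquiv (0 : Fin 1))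
    (by rw [PiTensorProduct.one_def, PiTensorProduct.subsingletonEquiv_apply_tprod]; rfl)
    (LinearMap.map_mul_iff (PiTensorProduct.subsingletonEquiv (R := k) (s := fun _ : Fin 1 => A) 0).toLinearMap |>.mpr <| by
      ext a b
      simp)

end Tpow

variable (k) in
/-- `B ≅ M₁(B)` -/
def matrixOne (B : Type w) [Ring B] [Algebra k B] : B ≃ₐ[k] Matrix (Fin 1) (Fin 1) B where
  toFun b := Matrix.of fun _ _ => b
  invFun M := M 0 0
  left_inv _ := rfl
  right_inv M := Matrix.ext fun i j => by rw [Subsingleton.elim i 0, Subsingleton.elim j 0]; rfl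
  map_mul' a b := Matrix.ext fun i j => by simp [Matrix.mul_apply]
  map_add' _ _ := rfl
  commutes' r := Matrix.ext fun i j => by simp [Matrix.algebraMap_matrix_apply, Subsingleton.elim i j]

theorem tpow_cyclic (hσ : Gen σ) {b : kˣ} {A : Type w} [Ring A] [Algebra k A]
    (hA : CSAGal.IsCyclicAlg k K σ b A) (e : ℕ) (he : 0 < e) :
    ∃ (B : Subalgebra k (Matrix (Fin (Module.finrank k K)) (Fin (Module.finrank k K)) K)) (p : ℕ), p ≠ 0 ∧
      CSAGal.IsCyclicAlg k K σ (b ^ e) B ∧ Nonempty (CSAGal.tpow k A e ≃ₐ[k] Matrix (Fin p) (Fin p) B) := by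
  classical
  induction e, he using Nat.le_induction with
  | base =>
    obtain ⟨B, -, hB⟩ := fixed_matrix_subalgebra hσ b
    obtain ⟨φ⟩ := cyclic_unique hσ hA hB
    exact ⟨B, 1, one_ne_zero, by rwa [pow_one],
      ⟨(tpowOne k A).trans (φ.trans (matrixOne k B))⟩⟩
  | succ e he ih =>
    obtain ⟨B, p, hp, hB, ⟨φ⟩⟩ := ih
    obtain ⟨B', -, hB'⟩ := fixed_matrix_subalgebra hσ (b ^ (e + 1))
    obtain ⟨ψ⟩ := tensor_cyclic hσ hB hA (by rw [← pow_succ]; exact hB')
    refine ⟨B', p * Module.finrank k K, mul_ne_zero hp Module.finrank_pos.ne', hB', ⟨?_⟩⟩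
    let χ : Matrix (Fin p) (Fin p) B ⊗[k] A ≃ₐ[k] Matrix (Fin p) (Fin p) (B ⊗[k] A) :=
      ((Algebra.TensorProduct.congr (matrixEquivTensor (Fin p) k B) AlgEquiv.refl).trans
        ((Algebra.TensorProduct.assoc k k k B _ A).trans
          ((Algebra.TensorProduct.congr AlgEquiv.refl (Algebra.TensorProduct.comm k _ A)).trans
            (Algebra.TensorProduct.assoc k k k B A _).symm))).trans (matrixEquivTensor (Fin p) k (B ⊗[k] A)).symm
    exact (tpowSucc k A e).trans ((Algebra.TensorProduct.congr φ AlgEquiv.refl).trans (χ.trans (ψ.mapMatrix.trans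
      ((Matrix.compAlgEquiv (Fin p) (Fin (Module.finrank k K)) B' k).trans
        (Matrix.reindexAlgEquiv k B' finProdFinEquiv)))))

theorem tpow_splits_iff (hσ : Gen σ) {b : kˣ} {A : Type w} [Ring A] [Algebra k A]
    (hA : CSAGal.IsCyclicAlg k K σ b A) (e : ℕ) (he : 0 < e) :
    Curves.Splits k (CSAGal.tpow k A e) k ↔ ∃ x : K, Algebra.norm k x = (b : k) ^ e := by
  obtain ⟨B, p, hp, hB, ⟨φ⟩⟩ := tpow_cyclic hσ hA e he
  obtain ⟨hc, hs, hfd⟩ := central_simple hσ hB
  rw [← Units.val_pow_eq_pow_val, ← splits_iff_norm hσ hB]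
  exact ⟨fun h => CSA8.splits_of_matrix k B hp (CSA8.splits_congr k φ.symm h),
    fun h => CSA8.splits_congr k φ (CSA8.splits_matrix k B hp h)⟩

theorem period_iff (hσ : Gen σ) {b : kˣ} {A : Type w} [Ring A] [Algebra k A]
    (hA : CSAGal.IsCyclicAlg k K σ b A) (e : ℕ) :
    CSAGal.IsPeriod k A e ↔
        (0 < e ∧ (∃ x : K, Algebra.norm k x = (b : k) ^ e) ∧
          ∀ e' : ℕ, 0 < e' → e' < e → ¬ ∃ x : K, Algebra.norm k x = (b : k) ^ e') := by
  unfold CSAGal.IsPeriod
  refine and_congr_right fun he => and_congr (tpow_splits_iff hσ hA e he) ?_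
  exact forall₃_congr fun e' he' _ => not_congr (tpow_splits_iff hσ hA e' he')

end Groth.Agent.Cyc8
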