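import Groth.Agent.Cyc8.Basic

set_option autoImplicit false
universe u v w

open scoped TensorProduct

namespace Groth.Agent.Cyc8

variable {k : Type u} [Field k] {K : Type v} [Field K] [Algebra k K] [FiniteDimensional k K]

theorem csa_splits [IsGalois k K] {σ : K ≃ₐ[k] K} (hσ : Gen σ) {b : kˣ} {A : Type w} [Ring A] [Algebra k A]
    (hA : CSAGal.IsCyclicAlg k K σ b A) :
    Algebra.IsCentral k A ∧ IsSimpleRing A ∧ Curves.Splits k A K := by
  obtain ⟨hc, hs, hfd⟩ := central_simple hσ hA
  obtain ⟨ι, y, -, -, -, -, hdim⟩ := unpack hσ hA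
  exact ⟨hc, hs, CSA8.splits_of_embedding ι hdim⟩

theorem embedding_of_splits {A : Type w} [Ring A] [Algebra k A] [Algebra.IsCentral k A] [IsSimpleRing A]
    [FiniteDimensional k A] (hA : Curves.Splits k A K)
    (hdim : Module.finrank k A = Module.finrank k K ^ 2) : Nonempty (K →ₐ[k] A) := by
  obtain ⟨d, hd, ⟨φ⟩⟩ := hA
  have h := φ.toLinearEquiv.finrank_eq
  rw [Module.finrank_baseChange, Module.finrank_matrix, Fintype.card_fin, Module.finrank_self, mul_one, hdim,
    ← pow_two] at h
  obtain rfl : d = Module.finrank k K := (Nat.pow_left_injective two_ne_zero h).symm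
  let ρ : A →ₐ[k] Module.End K (Fin (Module.finrank k K) → K) :=
    ((Matrix.toLinAlgEquiv' : Matrix _ _ K ≃ₐ[K] _).toAlgHom.restrictScalars k).comp
      ((φ.toAlgHom.restrictScalars k).comp Algebra.TensorProduct.includeRight)
  letI : Module A (Fin (Module.finrank k K) → K) := Module.compHom _ ρ.toRingHom
  have hsm : ∀ (a : A) (v : Fin (Module.finrank k K) → K), a • v = ρ a v := fun _ _ => rfl
  haveI : IsScalarTower k A (Fin (Module.finrank k K) → K) := ⟨fun c x v => by rw [hsm, hsm, map_smul]; rfl⟩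
  obtain ⟨e⟩ := CSA8.module_equiv k A (Fin (Module.finrank k K) → K) A (by
    rw [Module.finrank_pi_fintype, Finset.sum_const, Finset.card_univ, Fintype.card_fin, smul_eq_mul, hdim, pow_two])
  let v1 := e.symm 1
  have hv : ∀ a : A, e.symm a = a • v1 := fun a => by
    show e.symm a = a • e.symm 1
    rw [← map_smul, smul_eq_mul, mul_one]
  let f : K → A := fun x => e (x • v1)
  have hcomm : ∀ (x : K) (a : A), e (x • (a • v1)) = a * f x := fun x a => by
    have h1 : x • (a • v1) = a • (x • v1) := by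
      rw [hsm, hsm, map_smul]
    rw [h1, map_smul, smul_eq_mul]
  have hmul : ∀ x z, f (x * z) = f z * f x := fun x z => by
    have h1 : z • v1 = f z • v1 := by rw [← hv, e.symm_apply_apply]
    show e ((x * z) • v1) = _
    rw [mul_smul, h1, hcomm]
  refine ⟨
    { toFun := f
      map_one' := by show e ((1 : K) • v1) = 1; rw [one_smul, e.apply_symm_apply]
      map_mul' := fun x z => by rw [mul_comm, hmul]
      map_zero' := by show e ((0 : K) • v1) = 0; rw [zero_smul, map_zero]
      map_add' := fun x z => by show e ((x + z) • v1) = _; rw [add_smul, map_add]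
      commutes' := fun r => ?_ }⟩
  show e (algebraMap k K r • v1) = _
  rw [algebraMap_smul, ← algebraMap_smul A r v1, map_smul, e.apply_symm_apply, smul_eq_mul, mul_one]

variable [IsGalois k K] {σ : K ≃ₐ[k] K}

theorem cyclic_of_splits (hσ : Gen σ) {A : Type w} [Ring A] [Algebra k A] [Algebra.IsCentral k A] [IsSimpleRing A]
    [FiniteDimensional k A] (hA : Curves.Splits k A K)
    (hdim : Module.finrank k A = Module.finrank k K ^ 2) : ∃ b : kˣ, CSAGal.IsCyclicAlg k K σ b A := by
  obtain ⟨f⟩ := embedding_of_splits hA hdim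
  haveI : IsSimpleRing K := inferInstance
  obtain ⟨u, hu⟩ := CSA8.skolem_noether (k := k) (f.comp σ.toAlgHom) f
  -- `f (σ x) = u f x u⁻¹`
  set y : A := ((u⁻¹ : Aˣ) : A) with hy
  have hcomm : ∀ x, f x * y = y * f (σ x) := fun x => by
    have := hu x
    simp only [AlgHom.comp_apply, AlgEquiv.coe_toAlgHom] at this
    rw [this, hy, ← mul_assoc, ← mul_assoc, Units.inv_mul, one_mul]
  have hrel : ∀ (x : K) (i : ℕ), f x * y ^ i = y ^ i * f ((σ ^ i) x) := by
    intro x i
    induction i generalizing x with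
    | zero => simp
    | succ i ih =>
      rw [pow_succ, ← mul_assoc, ih, mul_assoc, hcomm, ← mul_assoc, pow_succ' σ i]
      rfl
  have hσn : σ ^ Module.finrank k K = 1 := by rw [← order_eq hσ, pow_orderOf_eq_one]
  have hmem : y ^ Module.finrank k K ∈ Subalgebra.centralizer k (f.range : Set A) := by
    rw [Subalgebra.mem_centralizer_iff]
    rintro _ ⟨x, rfl⟩
    show f x * _ = _ * f x
    rw [hrel, hσn]; rfl
  haveI : IsSimpleRing f.range := IsSimpleRing.of_ringEquiv (AlgEquiv.ofInjectiveField f).toRingEquiv inferInstance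
  obtain ⟨-, hd⟩ := CSA8.centralizer (k := k) f.range
  have hfr : Module.finrank k f.range = Module.finrank k K := (AlgEquiv.ofInjectiveField f).toLinearEquiv.finrank_eq.symm
  rw [hdim, hfr, pow_two] at hd
  have hcent : f.range = Subalgebra.centralizer k (f.range : Set A) := by
    refine Subalgebra.eq_of_le_of_finrank_le ?_ ?_
    · rintro _ ⟨x, rfl⟩
      rw [Subalgebra.mem_centralizer_iff]
      rintro _ ⟨z, rfl⟩
      show f z * f x = f x * f z
      rw [← map_mul, ← map_mul, mul_comm]
    · rw [hfr, Nat.eq_of_mul_eq_mul_left Module.finrank_pos hd.symm]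
  rw [← hcent] at hmem
  obtain ⟨c, hc⟩ := hmem
  have hc' : f c = y ^ Module.finrank k K := hc
  have hyu : IsUnit y := Units.isUnit _
  have hcfix : σ c = c := by
    have h1 : f c * y = y * f c := by rw [hc', ← pow_succ, ← pow_succ']
    rw [hcomm] at h1
    exact f.injective (hyu.mul_left_cancel h1)
  have hfix : ∀ τ : K ≃ₐ[k] K, τ c = c := fun τ => by
    have : Subgroup.zpowers σ ≤ MulAction.stabilizer (K ≃ₐ[k] K) c := Subgroup.zpowers_le.mpr hcfix
    exact this (hσ τ)
  obtain ⟨r, hr⟩ := Algebra.IsInvariant.isInvariant (A := k) (B := K) (G := K ≃ₐ[k] K) c hfix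
  have hpow : y ^ Module.finrank k K = algebraMap k A r := by rw [← hc', ← hr, AlgHom.commutes]
  have hr0 : r ≠ 0 := fun h0 => by
    rw [h0, map_zero] at hpow
    exact (hyu.pow _).ne_zero hpow
  exact ⟨Units.mk0 r hr0, isCyclicAlg_of_rel hσ _ (ι := f) (y := y) ⟨hpow, hcomm⟩ hdim.le⟩

theorem similar_cyclic (hσ : Gen σ) {A : Type w} [Ring A] [Algebra k A] [Algebra.IsCentral k A] [IsSimpleRing A]
    [FiniteDimensional k A] (hA : Curves.Splits k A K) :
    ∃ (b : kˣ) (B : Type w) (_ : Ring B) (_ : Algebra k B), CSAGal.IsCyclicAlg k K σ b B ∧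
        ∃ n m : ℕ, n ≠ 0 ∧ m ≠ 0 ∧ Nonempty (Matrix (Fin n) (Fin n) A ≃ₐ[k] Matrix (Fin m) (Fin m) B) := by
  classical
  have : IsArtinianRing A := .of_finite k A
  obtain ⟨s, hs, D, _, _, _, ⟨e⟩⟩ := IsSimpleRing.exists_algEquiv_matrix_divisionRing_finite k A
  have hs0 : 0 < s := Nat.pos_of_ne_zero hs.out
  haveI : Algebra.IsCentral k D := ⟨fun z hz => by
    have hmem : Matrix.scalar (Fin s) z ∈ Subalgebra.center k (Matrix (Fin s) (Fin s) D) :=
      Subalgebra.mem_center_iff.2 fun M => by
        ext i j; simp [Matrix.mul_diagonal, Matrix.diagonal_mul, (Subalgebra.mem_center_iff.1 hz (M i j))]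
    have hmem' : e.symm (Matrix.scalar (Fin s) z) ∈ Subalgebra.center k A := Subalgebra.mem_center_iff.2 fun a => by
      refine e.injective ?_
      rw [map_mul, map_mul, e.apply_symm_apply]
      exact Subalgebra.mem_center_iff.1 hmem (e a)
    rw [Algebra.IsCentral.center_eq_bot, Algebra.mem_bot] at hmem'
    obtain ⟨c, hc⟩ := hmem'
    have h := congrArg e hc
    rw [e.commutes, e.apply_symm_apply] at h
    refine Algebra.mem_bot.2 ⟨c, ?_⟩
    simpa [Matrix.algebraMap_matrix_apply] using congrFun (congrFun h ⟨0, hs0⟩) ⟨0, hs0⟩⟩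
  have hD : Curves.Splits k D K := CSA8.splits_of_matrix K D hs.out (CSA8.splits_congr K e.symm hA)
  obtain ⟨d, hd, ⟨φ⟩⟩ := hD
  have hdimD : Module.finrank k D = d ^ 2 := by
    have h := φ.toLinearEquiv.finrank_eq
    rwa [Module.finrank_baseChange, Module.finrank_matrix, Fintype.card_fin, Module.finrank_self, mul_one,
      ← pow_two] at h
  let ρ : D →ₐ[k] Module.End K (Fin d → K) :=
    ((Matrix.toLinAlgEquiv' : Matrix _ _ K ≃ₐ[K] _).toAlgHom.restrictScalars k).comp
      ((φ.toAlgHom.restrictScalars k).comp Algebra.TensorProduct.includeRight)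
  letI : Module D (Fin d → K) := Module.compHom _ ρ.toRingHom
  have hsm : ∀ (a : D) (v : Fin d → K), a • v = ρ a v := fun _ _ => rfl
  haveI : IsScalarTower k D (Fin d → K) := ⟨fun c x v => by rw [hsm, hsm, map_smul]; rfl⟩
  have h1 := Module.finrank_mul_finrank k D (Fin d → K)
  rw [hdimD, Module.finrank_pi_fintype, Finset.sum_const, Finset.card_univ, Fintype.card_fin, smul_eq_mul, pow_two,
    mul_assoc] at h1
  set r := Module.finrank D (Fin d → K)
  have hdr : d * r = Module.finrank k K := Nat.eq_of_mul_eq_mul_left (Nat.pos_of_ne_zero hd) h1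
  have hr : r ≠ 0 := fun h0 => by
    rw [h0, mul_zero] at hdr
    exact Module.finrank_pos.ne hdr
  haveI : Nonempty (Fin r) := ⟨⟨0, Nat.pos_of_ne_zero hr⟩⟩
  have hB : Module.finrank k (Matrix (Fin r) (Fin r) D) = Module.finrank k K ^ 2 := by
    rw [Module.finrank_matrix, Fintype.card_fin, hdimD, ← hdr]; ring
  obtain ⟨b, hb⟩ := cyclic_of_splits hσ (A := Matrix (Fin r) (Fin r) D)
    (CSA8.splits_matrix K D hr ⟨d, hd, ⟨φ⟩⟩) hB
  refine ⟨b, Matrix (Fin r) (Fin r) D, inferInstance, inferInstance, hb, r, s, hr, hs.out, ⟨?_⟩⟩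
  exact ((e.mapMatrix).trans ((Matrix.compAlgEquiv (Fin r) (Fin s) D k).trans
    (Matrix.reindexAlgEquiv k D (Equiv.prodComm (Fin r) (Fin s))))).trans (Matrix.compAlgEquiv (Fin s) (Fin r) D k).symm

end Groth.Agent.Cyc8
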