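import Mathlib
import Groth.Prelude.Def_GSzCSA
import Groth.Agent.CSA8.Similar

set_option autoImplicit false
universe u v w x

open scoped TensorProduct

namespace Groth.Agent.Cyc8

variable {k : Type u} [Field k] {K : Type v} [Field K] [Algebra k K] [FiniteDimensional k K] [IsGalois k K]
variable (σ : K ≃ₐ[k] K)
variable {A : Type w} [Ring A] [Algebra k A]

/-- `σ` generates the Galois group -/
def Gen : Prop := ∀ τ : K ≃ₐ[k] K, τ ∈ Subgroup.zpowers σ

variable {σ}

lemma order_eq (hσ : Gen σ) : orderOf σ = Module.finrank k K := by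
  have htop : Subgroup.zpowers σ = ⊤ := eq_top_iff.mpr fun τ _ => hσ τ
  rw [← Nat.card_zpowers, htop, Subgroup.card_top, IsGalois.card_aut_eq_finrank]

lemma pow_inj (hσ : Gen σ) {i j : Fin (Module.finrank k K)} (h : σ ^ (i : ℕ) = σ ^ (j : ℕ)) : i = j := by
  have := pow_injOn_Iio_orderOf (x := σ) (by simp [order_eq hσ]) (by simp [order_eq hσ]) h
  exact Fin.ext this

lemma exists_moved (hσ : Gen σ) {i j : Fin (Module.finrank k K)} (h : i ≠ j) :
    ∃ x : K, (σ ^ (i : ℕ)) x ≠ (σ ^ (j : ℕ)) x := by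
  by_contra! hc
  exact h (pow_inj hσ (AlgEquiv.ext hc))

/-- the defining relations -/
structure Rel (σ : K ≃ₐ[k] K) (b : k) (ι : K →ₐ[k] A) (y : A) : Prop where
  pow : y ^ Module.finrank k K = algebraMap k A b
  comm : ∀ x : K, ι x * y = y * ι (σ x)

lemma Rel.comm_pow {b : k} {ι : K →ₐ[k] A} {y : A} (h : Rel σ b ι y) (x : K) (i : ℕ) :
    ι x * y ^ i = y ^ i * ι ((σ ^ i) x) := by
  induction i generalizing x with
  | zero => simp
  | succ i ih =>
    rw [pow_succ, ← mul_assoc, ih, mul_assoc, h.comm, ← mul_assoc, pow_succ' σ i]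
    rfl

lemma Rel.isUnit {b : k} {ι : K →ₐ[k] A} {y : A} (h : Rel σ b ι y) (hb : b ≠ 0) : IsUnit y := by
  have hu : IsUnit (y ^ Module.finrank k K) := by
    rw [h.pow]; exact (isUnit_iff_ne_zero.mpr hb).map _
  exact (isUnit_pow_iff Module.finrank_pos.ne').mp hu

/-- `c ↦ ∑ yⁱ ι cᵢ` -/
noncomputable def evalMap (ι : K →ₐ[k] A) (y : A) : (Fin (Module.finrank k K) → K) →ₗ[k] A :=
  ∑ i : Fin (Module.finrank k K), (LinearMap.mulLeft k (y ^ (i : ℕ))).comp (ι.toLinearMap.comp (LinearMap.proj i))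

omit [FiniteDimensional k K] [IsGalois k K] in
lemma evalMap_apply (ι : K →ₐ[k] A) (y : A) (c : Fin (Module.finrank k K) → K) :
    evalMap ι y c = ∑ i : Fin (Module.finrank k K), y ^ (i : ℕ) * ι (c i) := by
  simp [evalMap]

lemma evalMap_single (ι : K →ₐ[k] A) (y : A) (i : Fin (Module.finrank k K)) (x : K) :
    evalMap ι y (Pi.single i x) = y ^ (i : ℕ) * ι x := by
  rw [evalMap_apply, Finset.sum_eq_single i]
  · simp
  · intro j _ hj; simp [Pi.single_eq_of_ne hj]
  · simp

/-- the support lemma: a left-`ι`, right-`ι` stable predicate on coefficient vectors is inherited by one term -/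
lemma exists_single (hσ : Gen σ) {b : k} {ι : K →ₐ[k] A} {y : A} (h : Rel σ b ι y) (P : A → Prop)
    (hP : ∀ x x' z, P z → P (ι x * z - z * ι x')) {c : Fin (Module.finrank k K) → K} (hc : c ≠ 0)
    (hPc : P (evalMap ι y c)) :
    ∃ i x, x ≠ 0 ∧ P (y ^ (i : ℕ) * ι x) := by
  classical
  induction hn : (Finset.univ.filter fun i => c i ≠ 0).card using Nat.strong_induction_on generalizing c with
  | _ m ih =>
    obtain ⟨i0, hi0⟩ : ∃ i, c i ≠ 0 := by
      by_contra! hh; exact hc (funext hh)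
    by_cases hone : ∀ j, j ≠ i0 → c j = 0
    · refine ⟨i0, c i0, hi0, ?_⟩
      have : c = Pi.single i0 (c i0) := by
        funext j
        by_cases hj : j = i0
        · subst hj; simp
        · simp [Pi.single_eq_of_ne hj, hone j hj]
      rwa [this, evalMap_single] at hPc
    push Not at hone
    obtain ⟨j, hj, hcj⟩ := hone
    obtain ⟨x, hx⟩ := exists_moved hσ hj
    let c' : Fin (Module.finrank k K) → K := fun i => ((σ ^ (i : ℕ)) x - (σ ^ (i0 : ℕ)) x) * c i
    have hev : evalMap ι y c' = ι x * evalMap ι y c - evalMap ι y c * ι ((σ ^ (i0 : ℕ)) x) := by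
      simp only [evalMap_apply, Finset.mul_sum, Finset.sum_mul, ← Finset.sum_sub_distrib]
      refine Finset.sum_congr rfl fun i _ => ?_
      rw [← mul_assoc (ι x), h.comm_pow, mul_assoc, mul_assoc, ← map_mul, ← map_mul, ← mul_sub, ← map_sub]
      congr 2
      simp only [c']; ring
    refine ih _ ?_ (c := c') (fun h0 => ?_) (by rw [hev]; exact hP _ _ _ hPc) rfl
    · subst hn
      refine Finset.card_lt_card ⟨fun i hi => ?_, fun hsub => ?_⟩
      · simp only [Finset.mem_filter, Finset.mem_univ, true_and] at hi ⊢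
        exact fun h0 => hi (by simp [c', h0])
      · have := hsub (Finset.mem_filter.mpr ⟨Finset.mem_univ i0, hi0⟩)
        simp [c'] at this
    · have := congrFun h0 j
      simp only [c', Pi.zero_apply, mul_eq_zero, sub_eq_zero] at this
      exact this.elim hx hcj

lemma evalMap_injective [Nontrivial A] (hσ : Gen σ) {b : k} (hb : b ≠ 0) {ι : K →ₐ[k] A} {y : A}
    (h : Rel σ b ι y) : Function.Injective (evalMap ι y) := by
  rw [injective_iff_map_eq_zero]
  intro c hc
  by_contra h0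
  obtain ⟨i, x, hx, hz⟩ := exists_single hσ h (fun z => z = 0) (fun x x' z hz => by simp [hz]) h0 hc
  exact hx ((map_eq_zero_iff ι ι.injective).mp (((h.isUnit hb).pow _).mul_right_eq_zero.mp hz))

lemma evalMap_bijective [Nontrivial A] [FiniteDimensional k A] (hσ : Gen σ) {b : k} (hb : b ≠ 0)
    {ι : K →ₐ[k] A} {y : A} (h : Rel σ b ι y) (hdim : Module.finrank k A ≤ Module.finrank k K ^ 2) :
    Function.Bijective (evalMap ι y) ∧ Module.finrank k A = Module.finrank k K ^ 2 := by
  have hinj := evalMap_injective hσ hb h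
  have hge := LinearMap.finrank_le_finrank_of_injective hinj
  rw [Module.finrank_pi_fintype, Finset.sum_const, Finset.card_univ, Fintype.card_fin, smul_eq_mul, ← pow_two] at hge
  have heq : Module.finrank k A = Module.finrank k K ^ 2 := le_antisymm hdim hge
  refine ⟨⟨hinj, (LinearMap.injective_iff_surjective_of_finrank_eq_finrank ?_).mp hinj⟩, heq⟩
  rw [Module.finrank_pi_fintype, Finset.sum_const, Finset.card_univ, Fintype.card_fin, smul_eq_mul, heq, pow_two]

lemma adjoin_top {ι : K →ₐ[k] A} {y : A} (hs : Function.Surjective (evalMap ι y)) :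
    Algebra.adjoin k (Set.range ι ∪ {y}) = ⊤ := by
  rw [eq_top_iff]
  rintro a -
  obtain ⟨c, rfl⟩ := hs a
  rw [evalMap_apply]
  exact sum_mem fun i _ => mul_mem
    (pow_mem (Algebra.subset_adjoin (show y ∈ Set.range ι ∪ {y} from Or.inr rfl)) _)
    (Algebra.subset_adjoin (show ι (c i) ∈ Set.range ι ∪ {y} from Or.inl ⟨_, rfl⟩))

/-- build a cyclic presentation from the relations and a dimension bound -/
theorem isCyclicAlg_of_rel [Nontrivial A] [FiniteDimensional k A] (hσ : Gen σ) (b : kˣ)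
    {ι : K →ₐ[k] A} {y : A} (h : Rel σ (b : k) ι y) (hdim : Module.finrank k A ≤ Module.finrank k K ^ 2) :
    CSAGal.IsCyclicAlg k K σ b A := by
  obtain ⟨hbij, heq⟩ := evalMap_bijective hσ b.ne_zero h hdim
  exact ⟨ι, y, h.pow, h.comm, adjoin_top hbij.2, Module.finrank_pos, heq⟩

/-- unpack a cyclic presentation -/
theorem unpack (hσ : Gen σ) {b : kˣ} (hA : CSAGal.IsCyclicAlg k K σ b A) :
    ∃ (ι : K →ₐ[k] A) (y : A), Rel σ (b : k) ι y ∧ Function.Bijective (evalMap ι y) ∧ Nontrivial A ∧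
      FiniteDimensional k A ∧ Module.finrank k A = Module.finrank k K ^ 2 := by
  obtain ⟨ι, y, hpow, hcomm, -, hpos, hdim⟩ := hA
  have hA0 : 0 < Module.finrank k A := by rw [hdim]; exact pow_pos hpos 2
  haveI : Nontrivial A := Module.nontrivial_of_finrank_pos hA0
  haveI : FiniteDimensional k A := FiniteDimensional.of_finrank_pos hA0
  exact ⟨ι, y, ⟨hpow, hcomm⟩, (evalMap_bijective hσ b.ne_zero ⟨hpow, hcomm⟩ hdim.le).1, inferInstance,
    inferInstance, hdim⟩

theorem central_simple (hσ : Gen σ) {b : kˣ} (hA : CSAGal.IsCyclicAlg k K σ b A) :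
    Algebra.IsCentral k A ∧ IsSimpleRing A ∧ FiniteDimensional k A := by
  classical
  obtain ⟨ι, y, h, hbij, hnt, hfd, hdim⟩ := unpack hσ hA
  have hn : 0 < Module.finrank k K := Module.finrank_pos
  have hy := h.isUnit b.ne_zero
  refine ⟨⟨fun z hz => ?_⟩, IsSimpleRing.of_eq_bot_or_eq_top fun J => ?_, hfd⟩
  · obtain ⟨c, rfl⟩ := hbij.2 z
    have hzero : ∀ i : Fin (Module.finrank k K), (i : ℕ) ≠ 0 → c i = 0 := by
      intro i hi
      obtain ⟨x, hx⟩ := exists_moved hσ (i := i) (j := ⟨0, hn⟩) (fun he => hi (congrArg Fin.val he))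
      have h1 : evalMap ι y (fun j => ((σ ^ (j : ℕ)) x - x) * c j) = 0 := by
        have hc := Subalgebra.mem_center_iff.mp hz (ι x)
        rw [evalMap_apply, ← sub_eq_zero.mpr hc]
        simp only [evalMap_apply, Finset.mul_sum, Finset.sum_mul, ← Finset.sum_sub_distrib]
        refine Finset.sum_congr rfl fun j _ => ?_
        rw [← mul_assoc (ι x), h.comm_pow, mul_assoc, mul_assoc, ← map_mul, ← map_mul, ← mul_sub, ← map_sub]
        congr 2
        ring
      have h2 := congrFun (hbij.1 (h1.trans (map_zero _).symm)) i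
      simp only [pow_zero, AlgEquiv.one_apply] at hx
      simp only [Pi.zero_apply, mul_eq_zero, sub_eq_zero] at h2
      exact h2.resolve_left hx
    have hc0 : c = Pi.single ⟨0, hn⟩ (c ⟨0, hn⟩) := by
      funext i
      by_cases hi : i = ⟨0, hn⟩
      · subst hi; simp
      · rw [Pi.single_eq_of_ne hi, hzero i (fun he => hi (Fin.ext he))]
    have hev : evalMap ι y c = ι (c ⟨0, hn⟩) := by
      rw [hc0, evalMap_single, Pi.single_eq_same]; simp
    rw [hev] at hz ⊢
    have h3 := Subalgebra.mem_center_iff.mp hz y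
    rw [h.comm] at h3
    have h4 : σ (c ⟨0, hn⟩) = c ⟨0, hn⟩ := (ι.injective (hy.mul_left_cancel h3)).symm
    have hfix : ∀ τ : K ≃ₐ[k] K, τ (c ⟨0, hn⟩) = c ⟨0, hn⟩ := fun τ => by
      have : Subgroup.zpowers σ ≤ MulAction.stabilizer (K ≃ₐ[k] K) (c ⟨0, hn⟩) :=
        Subgroup.zpowers_le.mpr h4
      exact this (hσ τ)
    obtain ⟨r, hr⟩ := Algebra.IsInvariant.isInvariant (A := k) (B := K) (G := K ≃ₐ[k] K) _ hfix
    exact Algebra.mem_bot.mpr ⟨r, by rw [← hr, AlgHom.commutes]⟩
  · by_cases hJ : ∃ a ∈ J, a ≠ 0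
    · obtain ⟨a, ha, ha0⟩ := hJ
      obtain ⟨c, rfl⟩ := hbij.2 a
      obtain ⟨i, x, hx, hmem⟩ := exists_single hσ h (fun z => z ∈ J)
        (fun x x' z hz => J.sub_mem (J.mul_mem_left _ _ hz) (J.mul_mem_right _ _ hz))
        (fun h0 => ha0 (by rw [h0, map_zero])) ha
      obtain ⟨u, hu⟩ := (hy.pow (i : ℕ)).mul ((isUnit_iff_ne_zero.mpr hx).map ι)
      refine Or.inr ((TwoSidedIdeal.one_mem_iff J).mp ?_)
      rw [← u.inv_mul, hu]
      exact J.mul_mem_left _ _ hmem
    · push Not at hJ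
      exact Or.inl (eq_bot_iff.mpr fun a ha => (TwoSidedIdeal.mem_bot A).mpr (hJ a ha))

/-- universal property -/
theorem lift (hσ : Gen σ) {b : kˣ} (hA : CSAGal.IsCyclicAlg k K σ b A) {R : Type x} [Ring R] [Algebra k R]
    {ι' : K →ₐ[k] R} {y' : R} (h' : Rel σ (b : k) ι' y') :
    ∃ (ι : K →ₐ[k] A) (y : A) (f : A →ₐ[k] R), Rel σ (b : k) ι y ∧ (∀ t, f (ι t) = ι' t) ∧ f y = y' ∧
      Algebra.adjoin k (Set.range ι ∪ {y}) = ⊤ := by
  classical
  obtain ⟨ι, y, h, hbij, hnt, hfd, hdim⟩ := unpack hσ hA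
  let e := LinearEquiv.ofBijective (evalMap ι y) hbij
  let f : A →ₗ[k] R := (evalMap ι' y').comp e.symm.toLinearMap
  have hterm : ∀ (i : Fin (Module.finrank k K)) (t : K), f (y ^ (i : ℕ) * ι t) = y' ^ (i : ℕ) * ι' t := by
    intro i t
    have : e.symm (y ^ (i : ℕ) * ι t) = Pi.single i t := by
      apply e.injective
      rw [LinearEquiv.apply_symm_apply]
      exact (evalMap_single ι y i t).symm
    simp [f, this, evalMap_single]
  have hn : 0 < Module.finrank k K := Module.finrank_pos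
  -- all exponents
  have hterm' : ∀ (m : ℕ) (t : K), f (y ^ m * ι t) = y' ^ m * ι' t := by
    intro m t
    have hm : m = Module.finrank k K * (m / Module.finrank k K) + m % Module.finrank k K := (Nat.div_add_mod _ _).symm
    rw [hm, pow_add, pow_add, pow_mul, pow_mul, h.pow, h'.pow, mul_assoc, mul_assoc, ← map_pow, ← map_pow,
      ← Algebra.smul_def, ← Algebra.smul_def, map_smul, hterm ⟨_, Nat.mod_lt _ hn⟩ t]
  have hmul : ∀ p q, f (p * q) = f p * f q := by
    intro p q
    obtain ⟨c, rfl⟩ := hbij.2 p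
    obtain ⟨d, rfl⟩ := hbij.2 q
    simp only [evalMap_apply, Finset.sum_mul, Finset.mul_sum, map_sum]
    refine Finset.sum_congr rfl fun i _ => Finset.sum_congr rfl fun j _ => ?_
    rw [hterm, hterm, mul_assoc, ← mul_assoc (ι _), h.comm_pow, mul_assoc, ← map_mul, ← mul_assoc, ← pow_add, hterm']
    rw [mul_assoc (y' ^ _) (ι' _), ← mul_assoc (ι' _), h'.comm_pow, mul_assoc, ← map_mul, ← mul_assoc, ← pow_add]
  have hone : f 1 = 1 := by simpa using hterm' 0 1
  refine ⟨ι, y, AlgHom.ofLinearMap f hone hmul, h, fun t => ?_, ?_, adjoin_top hbij.2⟩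
  · simpa using hterm' 0 t
  · simpa using hterm' 1 1

end Groth.Agent.Cyc8
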